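import Mathlib
import Cfsg.Prelude.Def_Classical
import Cfsg.Agent.Lib.Helper13.OTS.Defs

set_option autoImplicit false

/-!
# Project SO8 (designer helper19): definitions for S3589 (10u).
`q` even: `Sp_8(q)` (`= PSp 4 F`) and the full isometry group `GO^-_8(q)` of `quadFormMinus 3 F a b` have the same set of
element orders, namely the divisors of the twelve numbers of `T8 q`.

* `⊇`: `GO^-_8(q)` preserves the polar form of the quadratic form, a symplectic form: it embeds in `Sp_8(q)`.
* `⊆`: the characteristic polynomial of `x ∈ Sp_8(q)` is self-reciprocal of degree `8`; a factorisation argument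
  (Part C) gives `N ∈ T8 q` with `x ^ N = 1`; each `N ∈ T8 q` is the order of an isometry of the minus-type space
  (Part D: orthogonal sums of small pieces, `OReal`).

Vocabulary reused: helper13's OTS (`QStd`, `QTy`, `QCtx`), helper16's `qfPlus`, `qfMinus`, `sumQF`, `IsType`.
-/

namespace Cfsg.Agent.Lib.Helper19.SO8

open Polynomial

/-- the twelve maximal element orders of `Sp_8(q)` and of `GO^-_8(q)`, `q` even -/
def T8 (q : ℕ) : List ℕ :=
  [q ^ 4 + 1, q ^ 4 - 1, (q ^ 3 - 1) * (q + 1), (q ^ 3 + 1) * (q - 1), 2 * (q ^ 3 - 1), 2 * (q ^ 3 + 1),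
    2 * ((q ^ 2 + 1) * (q - 1)), 2 * ((q ^ 2 + 1) * (q + 1)), 4 * (q ^ 2 + 1), 4 * (q ^ 2 - 1),
    8 * (q - 1), 8 * (q + 1)]

/-- `q ^ e - 1` (`ε = true`, a pair `f ≠ f*` of irreducible factors of degree `e`) or `q ^ e + 1` (`ε = false`, a
self-reciprocal irreducible factor of degree `2 e`) -/
def tyN (q e : ℕ) (ε : Bool) : ℕ := if ε then q ^ e - 1 else q ^ e + 1

theorem tyN_true (q e : ℕ) : tyN q e true = q ^ e - 1 := rfl

theorem tyN_false (q e : ℕ) : tyN q e false = q ^ e + 1 := rfl

/-- `N` is the order of an isometry of some standard quadratic space (in coordinates) of dimension `2 d` and type `s` -/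
def OReal (F : Type*) [Field F] [Fintype F] (d : ℕ) (s : ℤ) (N : ℕ) : Prop :=
  ∃ (ι : Type) (_ : Fintype ι) (_ : DecidableEq ι) (Qs : QuadraticForm F (ι → F)),
    Cfsg.Agent.Lib.Helper13.OTS.QStd Qs d s ∧ ∃ g : ↥(Cfsg.isometryGroup F (⇑Qs)), orderOf g = N

end Cfsg.Agent.Lib.Helper19.SO8
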